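import Groth.Agent.Hensel.DepthFlat
import Mathlib.RingTheory.Ideal.KrullsHeightTheorem
import Mathlib.RingTheory.Flat.FaithfullyFlat.Algebra

/-!
Depth and height along a flat local map with zero-dimensional closed fibre; primes of a faithfully
flat extension minimal over a given prime.
-/

namespace Groth.Agent.SkDesc

universe u

open IsLocalRing RingTheory.Sequence TensorProduct

variable {R : Type u} [CommRing R] [IsLocalRing R] [IsNoetherianRing R]

/-- Depth is invariant under a flat local extension with zero-dimensional closed fibre. -/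
theorem depth_tensorProduct_eq (S : Type u) [CommRing S] [IsLocalRing S] [IsNoetherianRing S]
    [Algebra R S] [IsLocalHom (algebraMap R S)] [Module.Flat R S]
    (hm : ∀ P : Ideal S, P.IsPrime → (maximalIdeal R).map (algebraMap R S) ≤ P → P = maximalIdeal S)
    (M : Type u) [AddCommGroup M] [Module R M] [Module.Finite R M] :
    LocCoh.depth S (S ⊗[R] M) = LocCoh.depth R M := by
  have : Module.FaithfullyFlat R S := Module.FaithfullyFlat.of_flat_of_isLocalHom
  refine ENat.eq_of_forall_natCast_le_iff fun n => ?_
  induction n generalizing M with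
  | zero => simp
  | succ n ih =>
    by_cases hass : maximalIdeal R ∈ associatedPrimes R M
    · have hassS : maximalIdeal S ∈ associatedPrimes S (S ⊗[R] M) := by
        obtain ⟨-, z, hz⟩ := Groth.Agent.Alg6.mem_ass_iff.mp hass
        have hz0 : z ≠ 0 := fun h => (maximalIdeal.isMaximal R).ne_top
          ((Ideal.eq_top_iff_one _).mpr ((hz 1).mpr (by simp [h])))
        obtain ⟨P, hP, hPle⟩ := Groth.Agent.Alg6.exists_ass_ge (R := S) (z := (1 : S) ⊗ₜ[R] z)
          (fun h => hz0 ((Module.FaithfullyFlat.one_tmul_eq_zero_iff R M (A := S) z).mp h))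
        rwa [← hm P (IsAssociatedPrime.isPrime hP) ?_]
        rw [Ideal.map_le_iff_le_comap]
        intro r hr
        refine hPle _ ?_
        rw [TensorProduct.smul_tmul', smul_eq_mul, mul_one, Algebra.algebraMap_eq_smul_one,
          TensorProduct.smul_tmul, (hz r).mp hr, TensorProduct.tmul_zero]
      have h1 : ¬ ((n + 1 : ℕ) : ℕ∞) ≤ LocCoh.depth R M := fun h =>
        Groth.Agent.Alg6.one_le_depth_iff.mp (le_trans (by simp) h) hass
      have h2 : ¬ ((n + 1 : ℕ) : ℕ∞) ≤ LocCoh.depth S (S ⊗[R] M) := fun h =>
        Groth.Agent.Alg6.one_le_depth_iff.mp (le_trans (by simp) h) hassS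
      simp only [h1, h2]
    · obtain ⟨x, hx, hreg⟩ := (Groth.Agent.Alg6.exists_isSMulRegular_mem_iff (M := M) (maximalIdeal R)).mpr
        (fun p hp hle => hass (by
          rwa [(maximalIdeal.isMaximal R).eq_of_le (IsAssociatedPrime.isPrime hp).ne_top hle]))
      have hregS : IsSMulRegular (S ⊗[R] M) (algebraMap R S x) := by
        intro a b hab
        refine Module.Flat.lTensor_preserves_injective_linearMap (M := S) (LinearMap.lsmul R M x) hreg ?_
        have e : (LinearMap.lsmul R M x).lTensor S = LinearMap.lsmul R (S ⊗[R] M) x :=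
          TensorProduct.ext' fun s m => by simp [TensorProduct.smul_tmul']
        simpa [e, algebraMap_smul] using hab
      rw [Hensel.succ_le_depth_iff (R := S) (map_nonunit (algebraMap R S) x hx) hregS,
        Hensel.succ_le_depth_iff hx hreg,
        Hensel.depth_congr (QuotSMulTop.algebraMapTensorEquivTensorQuotSMulTop x M S)]
      exact ih _

theorem depth_eq (S : Type u) [CommRing S] [IsLocalRing S] [IsNoetherianRing S]
    [Algebra R S] [IsLocalHom (algebraMap R S)] [Module.Flat R S]
    (hm : ∀ P : Ideal S, P.IsPrime → (maximalIdeal R).map (algebraMap R S) ≤ P → P = maximalIdeal S) :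
    LocCoh.depth S S = LocCoh.depth R R := by
  rw [← depth_tensorProduct_eq S hm R]
  exact Hensel.depth_congr (AlgebraTensorModule.rid R S S).symm

omit [IsLocalRing R] [IsNoetherianRing R] in
/-- Over each prime of the base of a faithfully flat algebra there is a prime minimal over the extended ideal. -/
theorem exists_minimal_over (S : Type u) [CommRing S] [Algebra R S] [Module.FaithfullyFlat R S]
    (p : Ideal R) [p.IsPrime] :
    ∃ q : Ideal S, q ∈ (p.map (algebraMap R S)).minimalPrimes ∧ q.comap (algebraMap R S) = p := by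
  obtain ⟨q', hq'⟩ := PrimeSpectrum.comap_surjective_of_faithfullyFlat (B := S) (⟨p, ‹_›⟩ : PrimeSpectrum R)
  have h' : q'.asIdeal.comap (algebraMap R S) = p := congr(($hq').asIdeal)
  obtain ⟨q, hq, hqle⟩ := Ideal.exists_minimalPrimes_le (I := p.map (algebraMap R S)) (J := q'.asIdeal)
    (Ideal.map_le_iff_le_comap.mpr h'.ge)
  exact ⟨q, hq, le_antisymm ((Ideal.comap_mono hqle).trans h'.le) (Ideal.map_le_iff_le_comap.mp hq.1.2)⟩

omit [IsLocalRing R] [IsNoetherianRing R] in
/-- In the localisation at a prime minimal over `pS`, the extended maximal ideal is primary. -/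
theorem eq_maximalIdeal_of_minimal (S : Type u) [CommRing S] [Algebra R S] (p : Ideal R) [p.IsPrime]
    (q : Ideal S) [q.IsPrime] (hq : q ∈ (p.map (algebraMap R S)).minimalPrimes) [q.LiesOver p]
    [Algebra (Localization.AtPrime p) (Localization.AtPrime q)]
    [Localization.AtPrime.IsLiesOverAlgebra p q] (P : Ideal (Localization.AtPrime q)) (hP : P.IsPrime)
    (hle : (maximalIdeal (Localization.AtPrime p)).map
      (algebraMap (Localization.AtPrime p) (Localization.AtPrime q)) ≤ P) :
    P = maximalIdeal (Localization.AtPrime q) := by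
  rw [← Localization.AtPrime.map_eq_maximalIdeal, Ideal.map_map, ← IsScalarTower.algebraMap_eq,
    IsScalarTower.algebraMap_eq R S (Localization.AtPrime q), ← Ideal.map_map] at hle
  have h1 : p.map (algebraMap R S) ≤ P.comap (algebraMap S _) := Ideal.map_le_iff_le_comap.mp hle
  have h2 : P.comap (algebraMap S (Localization.AtPrime q)) ≤ q := by
    intro x hx
    by_contra hxq
    exact hP.ne_top (Ideal.eq_top_of_isUnit_mem _ hx (IsLocalization.map_units _ (⟨x, hxq⟩ : q.primeCompl)))
  have h3 : q ≤ P.comap (algebraMap S (Localization.AtPrime q)) := hq.2 ⟨inferInstance, h1⟩ h2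
  refine le_antisymm (le_maximalIdeal hP.ne_top) ?_
  rw [← Localization.AtPrime.map_eq_maximalIdeal]
  exact Ideal.map_le_iff_le_comap.mpr h3

omit [IsLocalRing R] in
/-- Height is invariant at a prime minimal over `pS` for flat `R → S`. -/
theorem height_eq_of_minimal (S : Type u) [CommRing S] [IsNoetherianRing S] [Algebra R S] [Module.Flat R S]
    (p : Ideal R) [p.IsPrime] (q : Ideal S) [q.IsPrime] (hq : q ∈ (p.map (algebraMap R S)).minimalPrimes)
    [q.LiesOver p] : q.height = p.height := by
  rw [Ideal.height_eq_height_add_of_liesOver_of_hasGoingDown p q]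
  have hmk : (q.map (Ideal.Quotient.mk (p.map (algebraMap R S)))).IsPrime :=
    Ideal.map_isPrime_of_surjective Ideal.Quotient.mk_surjective (by rw [Ideal.mk_ker]; exact hq.1.2)
  have : q.map (Ideal.Quotient.mk (p.map (algebraMap R S))) ∈ minimalPrimes (S ⧸ p.map (algebraMap R S)) := by
    rw [Ideal.minimalPrimes_eq_comap] at hq
    obtain ⟨Q, hQ, hQq⟩ := hq
    rw [← hQq, Ideal.map_comap_of_surjective _ Ideal.Quotient.mk_surjective]
    exact hQ
  rw [Ideal.height_eq_zero_iff.mpr this, add_zero]

end Groth.Agent.SkDesc
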